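import Cfsg.Agent.Rudvalis.Std.Defs

/-!
# The checks on the Sylow subgroup
-/

set_option autoImplicit false
set_option maxRecDepth 20000
set_option Elab.async false

namespace Cfsg.Lib.Rudvalis.Std

open Cfsg.Lib.Schur.ActPrime (ev)

theorem gen_ok : ((List.range 15).all fun i => (List.range 512).all fun y =>
    ev Mult.step (Mult.Two.pcw.getD i []) (orb y) == orb (gen i y)) = true := by decide +kernel

theorem orb_ok : ((List.range 512).all fun y => Nat.blt (orb y) 16240) = true := by decide +kernel

theorem orb_mono : ((List.range 511).all fun y => Nat.blt (orb y) (orb (y + 1))) = true := by decide +kernel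

theorem links_ok : (links.all linkOK) = true := by decide +kernel

theorem faithful_ok : RuModel.chk (fun e => e == 0 || !(base.all fun b => act e b == b)) 0 32768 = true := by
  decide +kernel

theorem invols_ok : RuModel.chk (fun e => !(sqIs 0 e) || e == 0 || e == 16384 || known.testBit e) 0 32768 = true := by
  decide +kernel

theorem centre_ok : RuModel.chk (fun e => !(central e) || e == 0 || e == 8192 || e == 16384 || e == 24576) 0 32768 =
    true := by decide +kernel

theorem centre_mem : ([8192, 16384, 24576].all fun e => central e && sqIs 0 e) = true := by decide +kernel

theorem count_z : (List.range 32768).countP (sqIs 16384) = 384 := by decide +kernel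

theorem count_t : (List.range 32768).countP (sqIs 8192) = 256 := by decide +kernel

theorem count_u : (List.range 32768).countP (sqIs 24576) = 608 := by decide +kernel

end Cfsg.Lib.Rudvalis.Std
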