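import Cfsg.Agent.Rudvalis.Std.Data
import Cfsg.Agent.Rudvalis.Mult.Cover

/-!
# The computable Sylow subgroup of the double cover of the Rudvalis group

An element is coded by fifteen bits, the exponents of the polycyclic generators.
-/

set_option autoImplicit false

namespace Cfsg.Lib.Rudvalis.Std

open Cfsg.Lib.Schur.ActPrime (ev)

/-- The code of a point of the orbit. -/
def orb (y : ℕ) : ℕ := (orbTab >>> (14 * y)) % 16384

/-- A generator on the orbit. -/
def gen (i y : ℕ) : ℕ := Nat.land (Nat.shiftRight (perms.getD i 0) (Nat.mul 9 y)) 511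

/-- A generator, if its bit is set. -/
def sel (i p e y : ℕ) : ℕ :=
  cond (Nat.beq (Nat.land (Nat.shiftRight e i) 1) 1) (Nat.land (Nat.shiftRight p (Nat.mul 9 y)) 511) y

/-- An element on the orbit. -/
def act (e y : ℕ) : ℕ :=
  sel 0 perm0 e
    (sel 1 perm1 e
    (sel 2 perm2 e
    (sel 3 perm3 e
    (sel 4 perm4 e
    (sel 5 perm5 e
    (sel 6 perm6 e
    (sel 7 perm7 e
    (sel 8 perm8 e
    (sel 9 perm9 e
    (sel 10 perm10 e
    (sel 11 perm11 e
    (sel 12 perm12 e
    (sel 13 perm13 e
    (sel 14 perm14 e y))))))))))))))

/-- The word of an element in the generators. -/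
def bits (e : ℕ) : List ℕ := (List.range 15).filter fun i => e.testBit i

/-- The word of an element in the two lifts. -/
def wordOf (e : ℕ) : List ℕ := (bits e).flatMap fun i => Mult.Two.pcw.getD i []

/-- The points with trivial stabiliser. -/
def base : List ℕ := [0, 12, 4]

/-- Whether the square of `e` is `c`. -/
def sqIs (c e : ℕ) : Bool := base.all fun b => Nat.beq (act e (act e b)) (act c b)

/-- Whether `e` commutes with all generators. -/
def central (e : ℕ) : Bool :=
  (List.range 15).all fun i => base.all fun b => act e (gen i b) == gen i (act e b)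

/-- A link holds: on the orbit for a generator, on the seven base vectors for a fusing word. -/
def linkOK (t : ℕ × ℕ × ℕ) : Bool :=
  if t.2.2 < 15 then base.all fun b => gen t.2.2 (act t.1 b) == act t.2.1 (gen t.2.2 b)
  else Mult.pts.all fun p =>
    ev Mult.step (Mult.Two.fw.getD (t.2.2 - 15) [] ++ wordOf t.1) p ==
      ev Mult.step (wordOf t.2.1 ++ Mult.Two.fw.getD (t.2.2 - 15) []) p

/-- Adding both ends of a link with one end known. -/
def addLink (known : ℕ) (t : ℕ × ℕ × ℕ) : ℕ :=
  bif known.testBit t.1 || known.testBit t.2.1 then known ||| (2 ^ t.1 ||| 2 ^ t.2.1) else known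

/-- The involutions reached from the two central ones other than the central one of the cover. -/
def known : ℕ := links.foldl addLink (2 ^ 8192 ||| 2 ^ 24576)

end Cfsg.Lib.Rudvalis.Std
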