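import Cfsg.Agent.Rudvalis.Std.Sylow
import Cfsg.Agent.Components.StdCover.Base
import Cfsg.Agent.FusionFrame.CoverUnique
import Cfsg.Agent.RuModel.Out.Transfer
import Cfsg.Agent.S2051
import Cfsg.Prelude.Def_Local

/-!
# A standard subgroup that is the double cover of the Rudvalis group
-/

set_option autoImplicit false

namespace Cfsg.Lib.Rudvalis.Std

open Cfsg Subgroup
open Cfsg.Lib.Rudvalis.Mult (two proj proj_surjective proj_ker card_proj_ker)

universe u

instance finite_two : Finite two := Nat.finite_of_card_ne_zero (by rw [Mult.card_two]; norm_num)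

theorem zT_ker : zT ∈ proj.ker := by
  rw [proj_ker, mem_subgroupOf, el_z]
  exact pow_mem Mult.center_mem 2

theorem ker_cases {g : two} (hg : g ∈ proj.ker) : g = 1 ∨ g = zT := by
  obtain ⟨-, h2, h1⟩ := centre_elements (e := 16384) (Or.inr (Or.inl rfl))
  have hzp : zpowers zT = proj.ker := eq_of_le_of_card_ge (zpowers_le.mpr zT_ker) (by
    rw [card_proj_ker, Nat.card_zpowers, orderOf_eq_prime (by rw [pow_two]; exact h2) h1])
  rw [← hzp] at hg
  obtain ⟨k, rfl⟩ := mem_zpowers_iff.mp hg
  rcases Int.even_or_odd k with ⟨m, rfl⟩ | ⟨m, rfl⟩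
  · left; rw [← two_mul, zpow_mul, zpow_ofNat, pow_two, h2, one_zpow]
  · right; rw [zpow_add_one, zpow_mul, zpow_ofNat, pow_two, h2, one_zpow, one_mul]

theorem center_ru : center Spor.Ru = ⊥ := by
  have : IsSimpleGroup Spor.Ru := Cfsg.Lib.Rudvalis.ru_simple
  rcases (inferInstance : (center Spor.Ru).Normal).eq_bot_or_eq_top with h | h
  · exact h
  · exfalso
    have hker : proj.ker = ⊤ := by
      rw [eq_top_iff, ← Mult.two_perfect, commutator_def, commutator_le]
      intro a _ b _
      rw [MonoidHom.mem_ker, map_commutatorElement, commutatorElement_eq_one_iff_mul_comm]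
      exact mem_center_iff.mp (h.ge (mem_top _)) _
    have hc := card_proj_ker
    rw [hker, card_top, Mult.card_two] at hc
    norm_num at hc

theorem centre_two {g : two} (hg : g ∈ center two) : g = 1 ∨ g = zT := by
  refine ker_cases ?_
  rw [MonoidHom.mem_ker, ← mem_bot, ← center_ru]
  exact mem_center_iff.mpr fun q => by
    obtain ⟨x, rfl⟩ := proj_surjective q
    rw [← map_mul, mem_center_iff.mp hg x, map_mul]

theorem aut_two_inner (σ : two ≃* two) : ∃ w : two, ∀ x, σ x = w * x * w⁻¹ := by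
  have hker : ∀ g : two, g ∈ proj.ker → σ g ∈ proj.ker := fun g hg => by
    have hc : σ g ∈ center two := mem_center_iff.mpr fun y => by
      obtain ⟨x, rfl⟩ := σ.surjective y
      rw [← map_mul, mem_center_iff.mp (Mult.proj_stem.2.1 hg) x, map_mul]
    rcases centre_two hc with h | h <;> rw [h]
    · exact one_mem _
    · exact zT_ker
  set π : Spor.Ru →* Spor.Ru :=
    (proj.liftOfSurjective proj_surjective ⟨proj.comp σ.toMonoidHom, hker⟩) with hπ
  have hspec : ∀ x, π (proj x) = proj (σ x) := fun x => proj.liftOfRightInverse_comp_apply _ _ _ x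
  have : Finite Spor.Ru := Finite.of_surjective proj proj_surjective
  have hs : Function.Surjective π := fun q => by
    obtain ⟨y, rfl⟩ := proj_surjective q
    exact ⟨proj (σ.symm y), by rw [hspec, σ.apply_symm_apply]⟩
  set φ : MulAut Spor.Ru := MulEquiv.ofBijective π (Finite.surjective_iff_bijective.mp hs)
  obtain ⟨q, hq⟩ := Cfsg.Lib.RuModel.ru_aut_inner φ
  obtain ⟨w, rfl⟩ := proj_surjective q
  refine ⟨w, fun x => ?_⟩
  let χ : two →* proj.ker :=
    { toFun := fun y => ⟨(w * y * w⁻¹)⁻¹ * σ y, by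
        rw [MonoidHom.mem_ker, map_mul, map_inv, map_mul, map_mul, map_inv, inv_mul_eq_one]
        exact (congrArg (fun f : MulAut Spor.Ru => f (proj y)) hq).trans (hspec y)⟩
      map_one' := Subtype.ext (by simp)
      map_mul' := fun a b => Subtype.ext (by
        have hcen : (w * a * w⁻¹)⁻¹ * σ a ∈ proj.ker := by
          rw [MonoidHom.mem_ker, map_mul, map_inv, map_mul, map_mul, map_inv, inv_mul_eq_one]
          exact (congrArg (fun f : MulAut Spor.Ru => f (proj a)) hq).trans (hspec a)
        have hc : Commute (w * b * w⁻¹)⁻¹ ((w * a * w⁻¹)⁻¹ * σ a) :=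
          mem_center_iff.mp (Mult.proj_stem.2.1 hcen) _
        show (w * (a * b) * w⁻¹)⁻¹ * σ (a * b) = (w * a * w⁻¹)⁻¹ * σ a * ((w * b * w⁻¹)⁻¹ * σ b)
        rw [map_mul, ← mul_assoc ((w * a * w⁻¹)⁻¹ * σ a), ← hc.eq]
        group) }
  have hx : x ∈ χ.ker := by
    have hle : commutator two ≤ χ.ker := by
      rw [commutator_def, commutator_le]
      intro a _ b _
      have : IsMulCommutative proj.ker :=
        ⟨⟨fun p r => Subtype.ext (mem_center_iff.mp (Mult.proj_stem.2.1 r.2) p)⟩⟩
      rw [MonoidHom.mem_ker, map_commutatorElement, commutatorElement_eq_one_iff_mul_comm]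
      exact this.is_comm.comm _ _
    exact hle (Mult.two_perfect.ge (mem_top x))
  have h1 := congrArg Subtype.val (MonoidHom.mem_ker.mp hx)
  exact ((inv_mul_eq_one).mp h1).symm

theorem cyclic_kernels {Γ : Type u} [Group Γ] [Finite Γ] (τ : Γ →* Spor.Ru) (hτ : IsStemExtension τ) :
    IsCyclic τ.ker := by
  let f : Shrink.{0} Γ ≃* Γ := Shrink.mulEquiv
  have : Finite (Shrink.{0} Γ) := Finite.of_equiv Γ (equivShrink.{0} Γ)
  obtain ⟨η, hη⟩ := Cfsg.Agent.S2051.result.2 (Shrink.{0} Γ) (τ.comp f.toMonoidHom) ⟨hτ.1.comp f.surjective,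
    fun x hx => mem_center_iff.mpr fun y => f.injective (by
      rw [map_mul, map_mul]; exact mem_center_iff.mp (hτ.2.1 hx) _),
    fun x hx => by
      have hm : f x ∈ (commutator (Shrink.{0} Γ)).map f.toMonoidHom := by
        rw [_root_.commutator_def, map_commutator, map_top_of_surjective f.toMonoidHom f.surjective,
          ← _root_.commutator_def]
        exact hτ.2.2 hx
      obtain ⟨y, hy, hyx⟩ := hm
      exact f.injective hyx ▸ hy⟩
  have hc : IsCyclic (τ.comp f.toMonoidHom).ker := isCyclic_of_surjective η hη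
  let g : (τ.comp f.toMonoidHom).ker →* τ.ker :=
    { toFun := fun x => ⟨f.toMonoidHom (x : Shrink.{0} Γ), x.2⟩
      map_one' := Subtype.ext (map_one f.toMonoidHom)
      map_mul' := fun a b => Subtype.ext (map_mul f.toMonoidHom _ _) }
  exact isCyclic_of_surjective g fun y => ⟨⟨f.symm y, by
    show τ (f (f.symm y)) = 1
    rw [f.apply_symm_apply]; exact y.2⟩, Subtype.ext (f.apply_symm_apply _)⟩

theorem cover_equiv {A : Type u} [Group A] [Finite A] (hq : IsQuasisimple A) (hZ : Nat.card (center A) = 2)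
    (hAX : Spor.IsoRu (A ⧸ center A)) : Nonempty (A ≃* two) := by
  obtain ⟨e⟩ := hAX
  set σ : A →* Spor.Ru := e.toMonoidHom.comp (QuotientGroup.mk' (center A))
  have hker : σ.ker = center A := by
    ext x
    rw [MonoidHom.mem_ker]
    show e (QuotientGroup.mk x) = 1 ↔ _
    rw [MulEquiv.map_eq_one_iff, QuotientGroup.eq_one_iff]
  obtain ⟨ε, -⟩ := Cfsg.Lib.FusionFrame.exists_cover_equiv σ proj (e.surjective.comp (QuotientGroup.mk'_surjective _))
    proj_surjective hker.le Mult.proj_stem.2.1 hq.1.commutator_eq_top Mult.two_perfect (by rw [hker]; exact hZ) card_proj_ker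
    fun τ hτ => cyclic_kernels τ hτ
  exact ⟨ε⟩

variable {G : Type u} [Group G] [Finite G]

theorem standard_normal (hO : oddCore G = ⊥) (A : Subgroup G) (hA : IsStandardSubgroup A)
    (hZ : Nat.card (center A) = 2) (hAX : Spor.IsoRu (A ⧸ center A))
    (hR : ∀ R : Sylow 2 (centralizer (A : Set G)), IsCyclic (R : Subgroup (centralizer (A : Set G)))) :
    A.Normal := by
  obtain ⟨e⟩ := cover_equiv hA.1 hZ hAX
  obtain ⟨-, hz2, hz1⟩ := centre_elements (e := 16384) (Or.inr (Or.inl rfl))
  let X : Cfsg.Lib.Components.StdCover.Ctx A two :=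
    ⟨hA, e, hR, zT, hz2, hz1, z_center, centre_two, aut_two_inner⟩
  have : Fact (Nat.Prime 2) := ⟨Nat.prime_two⟩
  refine X.normal (sylow : Subgroup two) sylow.isPGroup' sylow.not_dvd_index ?_ ?_ ?_ hO
  · intro x h2 h1 hz
    rcases (invol_cases h2 h1).resolve_left hz with h | h
    · exact ⟨el 8192, el_mem _, (centre_elements (Or.inl rfl)).1, h.symm⟩
    · exact ⟨el 24576, el_mem _, (centre_elements (Or.inr (Or.inr rfl))).1, h.symm⟩
  · intro s hs hc
    rcases centre_cases hs hc with rfl | rfl | rfl | rfl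
    · exact one_mul 1
    · exact (centre_elements (Or.inl rfl)).2.1
    · exact (centre_elements (Or.inr (Or.inl rfl))).2.1
    · exact (centre_elements (Or.inr (Or.inr rfl))).2.1
  · intro φ c _ hc
    obtain ⟨c, hcm⟩ := c
    rcases centre_cases hcm fun s hs => congrArg Subtype.val (hc ⟨s, hs⟩) with rfl | rfl | rfl | rfl
    · exact map_one φ
    · exact aut_fix φ (Or.inl rfl)
    · exact aut_fix φ (Or.inr (Or.inl rfl))
    · exact aut_fix φ (Or.inr (Or.inr rfl))

end Cfsg.Lib.Rudvalis.Std
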