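import Cfsg.Agent.Rudvalis.Std.Checks
import Batteries.Data.Nat.Lemmas

/-!
# Involutions and centre of a Sylow two-subgroup of the double cover of the Rudvalis group

An element of the Sylow subgroup is a number below `2 ^ 15`, determined by its action on three of 512 vectors.
-/

set_option autoImplicit false

namespace Cfsg.Lib.Rudvalis.Std

open Cfsg.Spor Cfsg.Lib.Schur.Prime
open Cfsg.Lib.Rudvalis.Mult (two rho enc V step syl ser wordVal wordVal_mem)
open Cfsg.Lib.Schur.ActPrime (ev)

/-- The element of the double cover with a given code. -/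
noncomputable def el (e : ℕ) : two := ⟨wordVal (wordOf e), wordVal_mem _⟩

/-- A polycyclic generator in the double cover. -/
noncomputable def sylT (i : ℕ) : two := ⟨syl i, wordVal_mem _⟩

theorem orb_lt {y : ℕ} (hy : y < 512) : orb y < 16240 := by
  simpa [Nat.blt, Nat.ble_eq] using List.all_eq_true.mp orb_ok y (List.mem_range.mpr hy)

theorem orb_strict {x : ℕ} : ∀ {y : ℕ}, x < y → y < 512 → orb x < orb y := by
  intro y hxy
  induction y with
  | zero => omega
  | succ y ih =>
    intro hy
    have hs : orb y < orb (y + 1) := by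
      simpa [Nat.blt, Nat.ble_eq] using List.all_eq_true.mp orb_mono y (List.mem_range.mpr (by omega))
    rcases Nat.lt_succ_iff_lt_or_eq.mp hxy with h | h
    · exact (ih h (by omega)).trans hs
    · exact h ▸ hs

theorem orb_inj {x y : ℕ} (hx : x < 512) (hy : y < 512) (h : orb x = orb y) : x = y := by
  rcases lt_trichotomy x y with h' | h' | h'
  · exact absurd h (orb_strict h' hy).ne
  · exact h'
  · exact absurd h.symm (orb_strict h' hx).ne

theorem ev_append (a b : List ℕ) (x : ℕ) : ev step (a ++ b) x = ev step a (ev step b x) := by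
  simp [ev, List.foldr_append]

theorem gen_lt (i y : ℕ) : gen i y < 512 :=
  lt_of_le_of_lt (Nat.and_le_right (n := (perms.getD i 0) >>> (9 * y))) (by norm_num)

theorem gen_eq {i y : ℕ} (hi : i < 15) (hy : y < 512) :
    ev step (Mult.Two.pcw.getD i []) (orb y) = orb (gen i y) :=
  beq_iff_eq.mp (List.all_eq_true.mp (List.all_eq_true.mp gen_ok i (List.mem_range.mpr hi)) y
    (List.mem_range.mpr hy))

theorem bit_eq (e i : ℕ) : Nat.beq (Nat.land (Nat.shiftRight e i) 1) 1 = e.testBit i := by
  show Nat.beq ((e >>> i) &&& 1) 1 = (1 &&& (e >>> i) != 0)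
  rw [Nat.and_comm 1, Nat.and_one_is_mod]
  rcases Nat.mod_two_eq_zero_or_one (e >>> i) with h | h <;> rw [h] <;> rfl

theorem sel_eq (i e y : ℕ) : sel i (perms.getD i 0) e y = bif e.testBit i then gen i y else y := by
  rw [sel, bit_eq]; rfl

theorem act_eq (e y : ℕ) :
    act e y = (List.range 15).foldr (fun i z => bif e.testBit i then gen i z else z) y := by
  simp only [← sel_eq]
  rfl

theorem ev_filter (p : ℕ → Bool) {y : ℕ} (hy : y < 512) : ∀ l : List ℕ, (∀ i ∈ l, i < 15) →
    l.foldr (fun i z => bif p i then gen i z else z) y < 512 ∧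
      ev step ((l.filter p).flatMap fun i => Mult.Two.pcw.getD i []) (orb y) =
        orb (l.foldr (fun i z => bif p i then gen i z else z) y)
  | [], _ => ⟨hy, rfl⟩
  | i :: l, h => by
    obtain ⟨h1, h2⟩ := ev_filter p hy l fun j hj => h j (List.mem_cons_of_mem _ hj)
    cases hp : p i
    · simp only [List.foldr_cons, hp, cond_false, List.filter_cons, Bool.false_eq_true, if_false]
      exact ⟨h1, h2⟩
    · simp only [List.foldr_cons, hp, cond_true, List.filter_cons, if_true, List.flatMap_cons]
      refine ⟨gen_lt _ _, ?_⟩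
      rw [ev_append, h2, gen_eq (h i List.mem_cons_self) h1]

theorem act_lt {e y : ℕ} (hy : y < 512) : act e y < 512 := by
  rw [act_eq]
  exact (ev_filter (fun i => e.testBit i) hy _ fun i hi => List.mem_range.mp hi).1

theorem word_in (e : ℕ) : (wordOf e).all (fun k => Nat.blt k 2) = true :=
  Cfsg.Lib.Schur.PermPrime.flat_in Mult.Two.words_ok.1 _

theorem rho_el (e : ℕ) (v : V) : enc (rho (el e) v) = ev step (wordOf e) (enc v) :=
  Mult.enc_wordVal (word_in e) v

theorem rho_syl (i : ℕ) (v : V) : enc (rho (sylT i) v) = ev step (Mult.Two.pcw.getD i []) (enc v) :=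
  Mult.enc_wordVal (Mult.syl_word i) v

theorem el_val (e : ℕ) : ((el e : two) : fourRu) = val syl (bits e) := by
  show wordVal (wordOf e) = val syl (bits e)
  rw [wordOf]
  induction bits e with
  | nil => rfl
  | cons i l ih =>
    rw [List.flatMap_cons, val_cons, wordVal, List.map_append, List.prod_append]
    exact congrArg (syl i * ·) ih

/-- A vector of the orbit. -/
noncomputable def pt (y : ℕ) : V :=
  if h : y < 512 then (Mult.enc_surj (orb y) (orb_lt h)).choose else (0, 0)

theorem enc_pt {y : ℕ} (hy : y < 512) : enc (pt y) = orb y := by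
  rw [pt, dif_pos hy]; exact (Mult.enc_surj (orb y) (orb_lt hy)).choose_spec

theorem rho_el_pt (e : ℕ) {y : ℕ} (hy : y < 512) : rho (el e) (pt y) = pt (act e y) := by
  refine Mult.enc_inj ?_
  rw [rho_el, enc_pt hy, enc_pt (act_lt hy), act_eq]
  exact (ev_filter (fun i => e.testBit i) hy _ fun i hi => List.mem_range.mp hi).2

theorem rho_syl_pt {i : ℕ} (hi : i < 15) {y : ℕ} (hy : y < 512) : rho (sylT i) (pt y) = pt (gen i y) := by
  refine Mult.enc_inj ?_
  rw [rho_syl, enc_pt hy, gen_eq hi hy, enc_pt (gen_lt _ _)]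

theorem pt_inj {x y : ℕ} (hx : x < 512) (hy : y < 512) (h : pt x = pt y) : x = y :=
  orb_inj hx hy (by rw [← enc_pt hx, ← enc_pt hy, h])

/-- The Sylow subgroup. -/
noncomputable abbrev sylS : Subgroup two := (ser 0).subgroupOf two

theorem syl_mem_ser {i k : ℕ} (hk : k ≤ i) (hi : i < 15) : syl i ∈ ser k :=
  Subgroup.subset_closure ⟨i, ⟨hk, hi⟩, rfl⟩

theorem sylT_mem {i : ℕ} (hi : i < 15) : sylT i ∈ sylS := syl_mem_ser (Nat.zero_le i) hi

theorem el_mem (e : ℕ) : el e ∈ sylS := by
  rw [Subgroup.mem_subgroupOf, el_val]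
  exact Subgroup.list_prod_mem _ fun g hg => by
    obtain ⟨i, hi, rfl⟩ := List.mem_map.mp hg
    exact syl_mem_ser (Nat.zero_le i) (List.mem_range.mp (List.mem_of_mem_filter hi))

theorem ser_index_two {k : ℕ} (hk : k < 15) : ((ser (k + 1)).subgroupOf (ser k)).index = 2 := by
  obtain ⟨h1, -⟩ := Mult.ser_card (15 - k) k (by omega)
  obtain ⟨h2, -⟩ := Mult.ser_card (14 - k) (k + 1) (by omega)
  have hle : ser (k + 1) ≤ ser k :=
    Subgroup.closure_mono (Set.image_mono fun i hi => ⟨(Nat.le_succ k).trans hi.1, hi.2⟩)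
  have h := Subgroup.index_mul_card ((ser (k + 1)).subgroupOf (ser k))
  rw [Nat.card_congr (Subgroup.subgroupOfEquivOfLe hle).toEquiv, h1, h2,
    show 15 - k = (14 - k) + 1 by omega, pow_succ'] at h
  exact Nat.eq_of_mul_eq_mul_right (by positivity) h

theorem syl_not_mem {k : ℕ} (hk : k < 15) : syl k ∉ ser (k + 1) :=
  Cfsg.Lib.Schur.ActPrime.moves_in_orbit Mult.vecPerm Mult.acts Mult.Two.words_ok.1 syl
    (fun _ => Mult.vecPerm_wordVal _) (List.all_eq_true.mp Mult.Two.orbs_ok k (List.mem_range.mpr hk))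

theorem exists_bits : ∀ d k, k + d = 15 → ∀ g ∈ ser k,
    ∃ p : ℕ → Bool, g = val syl ((List.range' k d).filter p) := by
  intro d
  induction d with
  | zero =>
    intro k hk g hg
    have h := (Mult.ser_card 0 k hk).1
    rw [pow_zero, Subgroup.card_eq_one] at h
    rw [h, Subgroup.mem_bot] at hg
    exact ⟨fun _ => false, by simp [hg, val]⟩
  | succ d ih =>
    intro k hk g hg
    by_cases hg1 : g ∈ ser (k + 1)
    · obtain ⟨p, hp⟩ := ih (k + 1) (by omega) g hg1
      refine ⟨fun i => bif i == k then false else p i, ?_⟩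
      rw [List.range'_succ, List.filter_cons, hp]
      simp only [beq_self_eq_true, cond_true, Bool.false_eq_true, if_false]
      exact congrArg _ (List.filter_congr fun i hi => by
        rw [List.mem_range'_1] at hi
        have : (i == k) = false := by simp; omega
        rw [this, cond_false])
    · have hmem := syl_mem_ser (k := k) le_rfl (by omega : k < 15)
      have hrest : (syl k)⁻¹ * g ∈ ser (k + 1) := by
        have := (Subgroup.mul_mem_iff_of_index_two (ser_index_two (by omega : k < 15))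
          (a := (⟨syl k, hmem⟩ : ser k)⁻¹) (b := ⟨g, hg⟩)).mpr
          (iff_of_false (fun h => syl_not_mem (by omega : k < 15) (by simpa [Subgroup.mem_subgroupOf] using h))
            (fun h => hg1 (by simpa [Subgroup.mem_subgroupOf] using h)))
        simpa [Subgroup.mem_subgroupOf] using this
      obtain ⟨p, hp⟩ := ih (k + 1) (by omega) _ hrest
      refine ⟨fun i => bif i == k then true else p i, ?_⟩
      rw [List.range'_succ, List.filter_cons]
      simp only [beq_self_eq_true, cond_true, if_true]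
      rw [val_cons, List.filter_congr (q := p) fun i hi => by
        rw [List.mem_range'_1] at hi
        have : (i == k) = false := by simp; omega
        rw [this, cond_false], ← hp, mul_inv_cancel_left]

theorem el_surj {g : two} (hg : g ∈ sylS) : ∃ e < 32768, g = el e := by
  obtain ⟨p, hp⟩ := exists_bits 15 0 rfl g hg
  refine ⟨Nat.ofBits fun i : Fin 15 => p i, by simpa using Nat.ofBits_lt_two_pow _, Subtype.ext ?_⟩
  rw [el_val, hp, bits, ← List.range_eq_range']
  exact congrArg _ (List.filter_congr fun i hi => (Nat.testBit_ofBits_lt (fun j : Fin 15 => p j) i (List.mem_range.mp hi)).symm)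

theorem el_zero : el 0 = 1 := Subtype.ext (by
  rw [el_val, show bits 0 = [] from rfl]
  rfl)

theorem base_lt {b : ℕ} (hb : b ∈ base) : b < 512 := by
  simp only [base, List.mem_cons, List.not_mem_nil, or_false] at hb
  omega

/-- Three vectors determine an element of the Sylow subgroup. -/
theorem eq_of_base {g h : two} (hg : g ∈ sylS) (hh : h ∈ sylS)
    (hb : ∀ b ∈ base, rho g (pt b) = rho h (pt b)) : g = h := by
  obtain ⟨e, he, hge⟩ := el_surj (mul_mem (inv_mem hg) hh)
  suffices e = 0 by rw [this, el_zero, inv_mul_eq_one] at hge; exact hge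
  have hfix : (base.all fun b => act e b == b) = true := List.all_eq_true.mpr fun b hbm => by
    refine beq_iff_eq.mpr (pt_inj (act_lt (base_lt hbm)) (base_lt hbm) ?_)
    rw [← rho_el_pt e (base_lt hbm), ← hge, map_mul, Equiv.Perm.mul_apply, ← hb b hbm, map_inv]
    exact (rho g).symm_apply_apply _
  have h := RuModel.chk_apply faithful_ok he
  rw [hfix] at h
  simpa using h

theorem sq_iff (c e : ℕ) : el e * el e = el c ↔ sqIs c e = true := by
  simp only [sqIs, List.all_eq_true, Nat.beq_eq]
  constructor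
  · intro h b hb
    refine pt_inj (act_lt (act_lt (base_lt hb))) (act_lt (base_lt hb)) ?_
    rw [← rho_el_pt e (act_lt (base_lt hb)), ← rho_el_pt e (base_lt hb), ← Equiv.Perm.mul_apply, ← map_mul, h,
      rho_el_pt c (base_lt hb)]
  · intro h
    refine eq_of_base (mul_mem (el_mem e) (el_mem e)) (el_mem c) fun b hb => ?_
    rw [map_mul, Equiv.Perm.mul_apply, rho_el_pt e (base_lt hb), rho_el_pt e (act_lt (base_lt hb)), h b hb,
      rho_el_pt c (base_lt hb)]

theorem el_injective {a b : ℕ} (ha : a < 32768) (hb : b < 32768) (h : el a = el b) : a = b := by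
  have hcard : Nat.card sylS = 32768 := by
    rw [Nat.card_congr (Subgroup.subgroupOfEquivOfLe Mult.ser_le_two).toEquiv, (Mult.ser_card 15 0 rfl).1]
    norm_num
  have hs : Function.Surjective (fun e : Fin 32768 => (⟨el e, el_mem e⟩ : sylS)) := fun g => by
    obtain ⟨e, he, hge⟩ := el_surj g.2
    exact ⟨⟨e, he⟩, Subtype.ext hge.symm⟩
  have := ((Nat.bijective_iff_surjective_and_card _).mpr ⟨hs, by rw [Nat.card_fin, hcard]⟩).1
    (a₁ := ⟨a, ha⟩) (a₂ := ⟨b, hb⟩) (Subtype.ext h)
  exact congrArg Fin.val this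

theorem card_sq {c n : ℕ} (hn : (List.range 32768).countP (sqIs c) = n) :
    Nat.card {g : sylS // (g : two) * g = el c} = n := by
  rw [← hn]
  refine (Nat.card_eq_of_bijective
    (fun e : {e : Fin 32768 // sqIs c e = true} =>
      (⟨⟨el e.1, el_mem _⟩, (sq_iff c _).mpr e.2⟩ : {g : sylS // (g : two) * g = el c})) ⟨?_, ?_⟩).symm.trans ?_
  · intro x y h
    exact Subtype.ext (Fin.ext (el_injective x.1.2 y.1.2 (congrArg (fun g => ((g.1 : sylS) : two)) h)))
  · rintro ⟨⟨g, hg⟩, hsq⟩
    obtain ⟨e, he, rfl⟩ := el_surj hg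
    exact ⟨⟨⟨e, he⟩, (sq_iff c e).mp hsq⟩, rfl⟩
  · rw [Nat.card_eq_fintype_card, Fintype.card_subtype, List.countP_eq_length_filter]
    rw [← List.toFinset_card_of_nodup (List.nodup_range.filter _)]
    refine Finset.card_bij (fun x _ => (x : ℕ)) ?_ (fun _ _ _ _ h => Fin.ext h) ?_
    · intro x hx
      simpa using (Finset.mem_filter.mp hx).2
    · intro m hm
      simp only [List.mem_toFinset, List.mem_filter, List.mem_range] at hm
      exact ⟨⟨m, hm.1⟩, by simpa using hm.2, rfl⟩

/-- The central involution of the cover. -/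
noncomputable abbrev zT : two := el 16384

theorem el_z : ((zT : two) : fourRu) = iAut ^ 2 := by
  rw [el_val, show bits 16384 = [14] from by decide +kernel, show val syl [14] = syl 14 from mul_one _]
  refine Mult.based fun p hp => Mult.enc_inj ?_
  rw [syl, Mult.enc_wordVal (Mult.syl_word 14), pow_two, map_mul, Equiv.Perm.mul_apply, Mult.rot_spec,
    Mult.rot_spec]
  exact beq_iff_eq.mp (List.all_eq_true.mp Mult.Two.last_neg _ hp)

theorem z_center : zT ∈ Subgroup.center two :=
  Subgroup.mem_center_iff.mpr fun g => Subtype.ext (by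
    show (g : fourRu) * zT = zT * (g : fourRu)
    rw [el_z]
    exact Subgroup.mem_center_iff.mp (pow_mem Mult.center_mem 2) _)

theorem central_spec {e : ℕ} (h : el e ∈ sylS → ∀ s ∈ sylS, s * el e = el e * s) : central e = true := by
  simp only [central, List.all_eq_true, List.mem_range, beq_iff_eq]
  intro i hi b hb
  refine pt_inj (act_lt (gen_lt _ _)) (gen_lt _ _) ?_
  have := congrArg (fun g : two => rho g (pt b)) (h (el_mem e) _ (sylT_mem hi))
  simp only [map_mul, Equiv.Perm.mul_apply] at this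
  rw [rho_el_pt e (base_lt hb), rho_syl_pt hi (act_lt (base_lt hb)), rho_syl_pt hi (base_lt hb),
    rho_el_pt e (gen_lt _ _)] at this
  exact this.symm

/-- The centre of the Sylow subgroup. -/
theorem centre_cases {g : two} (hg : g ∈ sylS) (hc : ∀ s ∈ sylS, s * g = g * s) :
    g = 1 ∨ g = el 8192 ∨ g = zT ∨ g = el 24576 := by
  obtain ⟨e, he, rfl⟩ := el_surj hg
  have h := RuModel.chk_apply centre_ok he
  rw [central_spec fun _ => hc] at h
  simp only [Bool.not_true, Bool.false_or, Bool.or_eq_true, beq_iff_eq] at h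
  rcases h with ((rfl | rfl) | rfl) | rfl
  · exact Or.inl el_zero
  · exact Or.inr (Or.inl rfl)
  · exact Or.inr (Or.inr (Or.inl rfl))
  · exact Or.inr (Or.inr (Or.inr rfl))

theorem commutes_of_central {e : ℕ} (h : central e = true) {s : two} (hs : s ∈ sylS) :
    s * el e = el e * s := by
  simp only [central, List.all_eq_true, List.mem_range, beq_iff_eq] at h
  have key : ∀ i < 15, sylT i * el e = el e * sylT i := fun i hi => by
    refine eq_of_base (mul_mem (sylT_mem hi) (el_mem e)) (mul_mem (el_mem e) (sylT_mem hi)) fun b hb => ?_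
    rw [map_mul, map_mul, Equiv.Perm.mul_apply, Equiv.Perm.mul_apply, rho_el_pt e (base_lt hb),
      rho_syl_pt hi (act_lt (base_lt hb)), rho_syl_pt hi (base_lt hb), rho_el_pt e (gen_lt _ _), h i hi b hb]
  have hle : ser 0 ≤ Subgroup.centralizer ({(el e : fourRu)} : Set fourRu) := by
    refine (Subgroup.closure_le _).mpr ?_
    rintro _ ⟨i, ⟨-, hi⟩, rfl⟩
    exact Subgroup.mem_centralizer_singleton_iff.mpr (congrArg Subtype.val (key i hi))
  exact Subtype.ext (Subgroup.mem_centralizer_singleton_iff.mp (hle hs))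

theorem centre_elements {e : ℕ} (he : e = 8192 ∨ e = 16384 ∨ e = 24576) :
    (∀ s ∈ sylS, s * el e = el e * s) ∧ el e * el e = 1 ∧ el e ≠ 1 := by
  have h := List.all_eq_true.mp centre_mem e (by simpa using he)
  rw [Bool.and_eq_true] at h
  refine ⟨fun s hs => commutes_of_central h.1 hs, ?_, fun h1 => ?_⟩
  · rw [(sq_iff 0 e).mpr h.2, el_zero]
  · have := el_injective (a := e) (b := 0) (by omega) (by norm_num) (h1.trans el_zero.symm)
    omega

theorem link_spec {t : ℕ × ℕ × ℕ} (h : linkOK t = true) : IsConj (el t.1) (el t.2.1) := by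
  rw [linkOK] at h
  split at h
  · rename_i hi
    simp only [List.all_eq_true, beq_iff_eq] at h
    refine isConj_iff.mpr ⟨sylT t.2.2, mul_inv_eq_iff_eq_mul.mpr ?_⟩
    refine eq_of_base (mul_mem (sylT_mem hi) (el_mem _)) (mul_mem (el_mem _) (sylT_mem hi)) fun b hb => ?_
    rw [map_mul, map_mul, Equiv.Perm.mul_apply, Equiv.Perm.mul_apply, rho_el_pt _ (base_lt hb),
      rho_syl_pt hi (act_lt (base_lt hb)), rho_syl_pt hi (base_lt hb), rho_el_pt _ (gen_lt _ _), h b hb]
  · set w := Mult.Two.fw.getD (t.2.2 - 15) []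
    refine isConj_iff.mpr ⟨⟨wordVal w, wordVal_mem w⟩, mul_inv_eq_iff_eq_mul.mpr ?_⟩
    refine Mult.based_two _ _ fun p hp => Mult.enc_inj ?_
    have hw : w.all (fun k => Nat.blt k 2) = true := Cfsg.Lib.Schur.PermPrime.getD_in Mult.Two.words_ok.2 _
    have hg : ∀ v : V, enc (rho (⟨wordVal w, wordVal_mem w⟩ : two) v) = ev step w (enc v) :=
      fun v => Mult.enc_wordVal hw v
    rw [map_mul, map_mul, Equiv.Perm.mul_apply, Equiv.Perm.mul_apply, hg, rho_el, rho_el, hg, ← ev_append,
      ← ev_append]
    exact beq_iff_eq.mp (List.all_eq_true.mp h _ hp)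

theorem testBit_addLink {known : ℕ} {t : ℕ × ℕ × ℕ} {e : ℕ} (h : (addLink known t).testBit e = true) :
    known.testBit e = true ∨ ((known.testBit t.1 = true ∨ known.testBit t.2.1 = true) ∧ (e = t.1 ∨ e = t.2.1)) := by
  rw [addLink] at h
  cases hc : known.testBit t.1 || known.testBit t.2.1
  · rw [hc, cond_false] at h; exact Or.inl h
  · rw [hc, cond_true] at h
    simp only [Nat.testBit_or, Bool.or_eq_true, Nat.testBit_two_pow, decide_eq_true_eq] at h
    rw [Bool.or_eq_true] at hc
    rcases h with h | h | h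
    · exact Or.inl h
    · exact Or.inr ⟨hc, Or.inl h.symm⟩
    · exact Or.inr ⟨hc, Or.inr h.symm⟩

theorem known_spec {e : ℕ} (h : known.testBit e = true) :
    IsConj (el 8192) (el e) ∨ IsConj (el 24576) (el e) := by
  suffices ∀ (l : List (ℕ × ℕ × ℕ)) (k : ℕ), (∀ t ∈ l, linkOK t = true) →
      (∀ e, k.testBit e = true → IsConj (el 8192) (el e) ∨ IsConj (el 24576) (el e)) →
      ∀ e, (l.foldl addLink k).testBit e = true → IsConj (el 8192) (el e) ∨ IsConj (el 24576) (el e) from
    this links _ (List.all_eq_true.mp links_ok) (fun e he => by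
      simp only [Nat.testBit_or, Bool.or_eq_true, Nat.testBit_two_pow, decide_eq_true_eq] at he
      rcases he with rfl | rfl
      · exact Or.inl (IsConj.refl _)
      · exact Or.inr (IsConj.refl _)) e h
  intro l
  induction l with
  | nil => intro k _ hk e he; exact hk e he
  | cons t l ih =>
    intro k hl hk e he
    refine ih _ (fun s hs => hl s (List.mem_cons_of_mem _ hs)) (fun x hx => ?_) e he
    have hc := link_spec (hl t List.mem_cons_self)
    rcases testBit_addLink hx with h1 | ⟨h1 | h1, rfl | rfl⟩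
    · exact hk x h1
    · exact hk _ h1
    · exact (hk _ h1).imp (·.trans hc) (·.trans hc)
    · exact (hk _ h1).imp (·.trans hc.symm) (·.trans hc.symm)
    · exact hk _ h1

theorem card_two_split : Nat.card two = 2 ^ 15 * 8906625 := by rw [Mult.card_two]; norm_num

/-- The Sylow subgroup as such. -/
noncomputable def sylow : Sylow 2 two :=
  haveI : Fact (Nat.Prime 2) := ⟨Nat.prime_two⟩
  Sylow.ofCard sylS (by
    rw [Nat.card_congr (Subgroup.subgroupOfEquivOfLe Mult.ser_le_two).toEquiv, (Mult.ser_card 15 0 rfl).1,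
      Mult.card_two]
    exact (congrArg (2 ^ ·) (Mult.factorization_eq (p := 2) (e := 15) (by norm_num) (by norm_num) (by norm_num)
      (by norm_num))).symm)

/-- An involution is central or fuses into the centre of the Sylow subgroup. -/
theorem invol_cases {x : two} (h2 : x * x = 1) (h1 : x ≠ 1) :
    x = zT ∨ IsConj (el 8192) x ∨ IsConj (el 24576) x := by
  have : Fact (Nat.Prime 2) := ⟨Nat.prime_two⟩
  obtain ⟨Q, hQ⟩ := (IsPGroup.of_card_dvd_pow (n := 1) (p := 2) (G := Subgroup.zpowers x) (by
    rw [Nat.card_zpowers, pow_one]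
    exact orderOf_dvd_of_pow_eq_one (by rw [pow_two]; exact h2))).exists_le_sylow
  obtain ⟨g, hg⟩ := MulAction.exists_smul_eq two Q sylow
  have hy : g * x * g⁻¹ ∈ sylS := by
    show g * x * g⁻¹ ∈ (sylow : Subgroup two)
    rw [← hg, Sylow.coe_subgroup_smul]
    exact ⟨x, hQ (Subgroup.mem_zpowers x), rfl⟩
  have hxy : IsConj x (g * x * g⁻¹) := isConj_iff.mpr ⟨g, rfl⟩
  obtain ⟨e, he, hye⟩ := el_surj hy
  have hsq : el e * el e = el 0 := by
    rw [el_zero, ← hye, show g * x * g⁻¹ * (g * x * g⁻¹) = g * (x * x) * g⁻¹ by group, h2]; group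
  have h := RuModel.chk_apply invols_ok he
  rw [(sq_iff 0 e).mp hsq] at h
  simp only [Bool.not_true, Bool.false_or, Bool.or_eq_true, beq_iff_eq] at h
  rcases h with (rfl | rfl) | h
  · rw [el_zero, conj_eq_one_iff] at hye; exact absurd hye h1
  · refine Or.inl (mul_left_cancel (a := g) ?_)
    rw [mul_inv_eq_iff_eq_mul.mp hye]
    exact (Subgroup.mem_center_iff.mp z_center g).symm
  · refine Or.inr ((known_spec h).imp ?_ ?_) <;> exact fun hc => hc.trans (hye ▸ hxy.symm)

theorem count_ne {a b m n : ℕ} (ha : (List.range 32768).countP (sqIs a) = m)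
    (hb : (List.range 32768).countP (sqIs b) = n) (hmn : m ≠ n) (φ : sylS ≃* sylS) :
    φ ⟨el a, el_mem a⟩ ≠ ⟨el b, el_mem b⟩ := by
  intro h
  refine hmn ((card_sq ha).symm.trans ((Nat.card_congr ?_).trans (card_sq hb)))
  refine φ.toEquiv.subtypeEquiv fun g => ?_
  show (g : two) * g = el a ↔ ((φ g : sylS) : two) * (φ g : sylS) = el b
  constructor
  · intro hg
    have : g * g = (⟨el a, el_mem a⟩ : sylS) := Subtype.ext hg
    exact congrArg Subtype.val ((map_mul φ g g).symm.trans ((congrArg φ this).trans h))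
  · intro hg
    have : φ g * φ g = (⟨el b, el_mem b⟩ : sylS) := Subtype.ext hg
    exact congrArg Subtype.val (φ.injective ((map_mul φ g g).trans (this.trans h.symm)))

/-- Automorphisms of the Sylow subgroup fix the three central involutions. -/
theorem aut_fix (φ : sylS ≃* sylS) {e : ℕ} (he : e = 8192 ∨ e = 16384 ∨ e = 24576) :
    φ ⟨el e, el_mem e⟩ = ⟨el e, el_mem e⟩ := by
  obtain ⟨hc, h2, h1⟩ := centre_elements he
  have hcentre : ∀ s ∈ sylS, s * (φ ⟨el e, el_mem e⟩ : two) = (φ ⟨el e, el_mem e⟩ : two) * s := fun s hs => by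
    obtain ⟨r, hr⟩ := φ.surjective ⟨s, hs⟩
    have h : r * ⟨el e, el_mem e⟩ = ⟨el e, el_mem e⟩ * r := Subtype.ext (hc r r.2)
    have := congrArg (fun g : sylS => ((φ g : sylS) : two)) h
    simp only [map_mul, Subgroup.coe_mul, hr] at this
    exact this
  have hn : ∀ a, a = 8192 ∨ a = 16384 ∨ a = 24576 →
      (List.range 32768).countP (sqIs a) = if a = 8192 then 256 else if a = 16384 then 384 else 608 := by
    intro a ha
    rcases ha with rfl | rfl | rfl
    · exact count_t
    · exact count_z
    · exact count_u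
  have key : ∀ a, a = 8192 ∨ a = 16384 ∨ a = 24576 → φ ⟨el e, el_mem e⟩ = ⟨el a, el_mem a⟩ →
      φ ⟨el e, el_mem e⟩ = ⟨el e, el_mem e⟩ := by
    intro a ha h
    by_cases hae : a = e
    · subst hae; exact h
    · refine absurd h (count_ne (hn e he) (hn a ha) ?_ φ)
      rcases he with rfl | rfl | rfl <;> rcases ha with rfl | rfl | rfl <;> simp at hae ⊢
  rcases centre_cases (φ ⟨el e, el_mem e⟩).2 hcentre with h | h | h | h
  · exact absurd (congrArg Subtype.val ((MulEquiv.map_eq_one_iff φ).mp (Subtype.ext h))) h1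
  · exact key 8192 (Or.inl rfl) (Subtype.ext h)
  · exact key 16384 (Or.inr (Or.inl rfl)) (Subtype.ext h)
  · exact key 24576 (Or.inr (Or.inr rfl)) (Subtype.ext h)

end Cfsg.Lib.Rudvalis.Std
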